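import Groth.Prelude.Def_W4c5suslinpi1abAdj
import Mathlib

/-!
Calculus of projection morphisms and exterior products for monoidal adjunctions.
-/

universe v u

open CategoryTheory MonoidalCategory Functor.LaxMonoidal Functor.OplaxMonoidal

namespace Susl52
open W4c5suslinpi1ab

variable {C : Type u} [Category.{v} C] [MonoidalCategory C]
variable {D : Type u} [Category.{v} D] [MonoidalCategory D]

theorem map_projR_counit {L : C ⥤ D} {R : D ⥤ C} (adj : L ⊣ R) [L.OplaxMonoidal] [R.LaxMonoidal]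
    [adj.IsMonoidal] (A : D) (B : C) :
    L.map (projR adj A B) ≫ adj.counit.app (A ⊗ L.obj B) =
      δ L (R.obj A) B ≫ (adj.counit.app A ▷ L.obj B) := by
  rw [projR, L.map_comp, Category.assoc, Adjunction.map_μ_comp_counit_app_tensor]
  erw [← δ_natural_right_assoc]
  rw [← id_tensorHom, tensorHom_comp_tensorHom]
  erw [Category.id_comp, Adjunction.left_triangle_components]
  rw [tensorHom_id]

theorem map_projL_counit {L : C ⥤ D} {R : D ⥤ C} (adj : L ⊣ R) [L.OplaxMonoidal] [R.LaxMonoidal]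
    [adj.IsMonoidal] (A : C) (B : D) :
    L.map (projL adj A B) ≫ adj.counit.app (L.obj A ⊗ B) =
      δ L A (R.obj B) ≫ (L.obj A ◁ adj.counit.app B) := by
  rw [projL, L.map_comp, Category.assoc, Adjunction.map_μ_comp_counit_app_tensor]
  erw [← δ_natural_left_assoc]
  rw [← tensorHom_id, tensorHom_comp_tensorHom]
  erw [Category.id_comp, Adjunction.left_triangle_components]
  rw [id_tensorHom]
  rfl

theorem projR_natural {L : C ⥤ D} {R : D ⥤ C} (adj : L ⊣ R) [R.LaxMonoidal] {A A' : D} {B B' : C}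
    (a : A ⟶ A') (b : B ⟶ B') :
    (R.map a ⊗ₘ b) ≫ projR adj A' B' = projR adj A B ≫ R.map (a ⊗ₘ L.map b) := by
  have h := adj.unit.naturality b
  dsimp at h
  rw [projR, projR, Category.assoc, ← μ_natural, ← id_tensorHom, ← id_tensorHom,
    tensorHom_comp_tensorHom_assoc, tensorHom_comp_tensorHom_assoc, Category.comp_id,
    Category.id_comp, h]

theorem projR_natural_right {L : C ⥤ D} {R : D ⥤ C} (adj : L ⊣ R) [R.LaxMonoidal] (A : D) {B B' : C}
    (b : B ⟶ B') :
    (R.obj A ◁ b) ≫ projR adj A B' = projR adj A B ≫ R.map (A ◁ L.map b) := by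
  simpa [← id_tensorHom] using projR_natural adj (𝟙 A) b

theorem projL_natural {L : C ⥤ D} {R : D ⥤ C} (adj : L ⊣ R) [R.LaxMonoidal] {A A' : C} {B B' : D}
    (a : A ⟶ A') (b : B ⟶ B') :
    (a ⊗ₘ R.map b) ≫ projL adj A' B' = projL adj A B ≫ R.map (L.map a ⊗ₘ b) := by
  have h := adj.unit.naturality a
  dsimp at h
  rw [projL, projL, Category.assoc, ← μ_natural, ← tensorHom_id, ← tensorHom_id,
    tensorHom_comp_tensorHom_assoc, tensorHom_comp_tensorHom_assoc, Category.comp_id,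
    Category.id_comp, h]

theorem cup_counit {L : C ⥤ D} {R : D ⥤ C} {S : C ⥤ D} (adj : L ⊣ R) (adj' : R ⊣ S)
    [R.LaxMonoidal] [∀ (A : D) (B : C), IsIso (projR adj A B)] (A B : C) :
    R.map (cupShriek adj adj' A B) ≫ adj'.counit.app (A ⊗ B) =
      inv (projR adj (S.obj A) B) ≫ (adj'.counit.app A ▷ B) := by
  erw [← Adjunction.homEquiv_counit]
  rw [cupShriek]
  exact Equiv.symm_apply_apply _ _

theorem cup_natural {L : C ⥤ D} {R : D ⥤ C} {S : C ⥤ D} (adj : L ⊣ R) (adj' : R ⊣ S)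
    [R.LaxMonoidal] [∀ (A : D) (B : C), IsIso (projR adj A B)] (A : C) {B B' : C} (b : B ⟶ B') :
    cupShriek adj adj' A B ≫ S.map (A ◁ b) = (S.obj A ◁ L.map b) ≫ cupShriek adj adj' A B' := by
  rw [cupShriek, cupShriek, ← Adjunction.homEquiv_naturality_right,
    ← Adjunction.homEquiv_naturality_left, Category.assoc]
  erw [← whisker_exchange]
  congr 1
  rw [IsIso.inv_comp_eq, ← Category.assoc, ← Category.assoc, ← projR_natural_right,
    Category.assoc _ (projR _ _ _), IsIso.hom_inv_id, Category.comp_id]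
  rfl

section Square

variable {S₀ : Type u} [Category.{v} S₀] [MonoidalCategory S₀]
variable {Y₁ : Type u} [Category.{v} Y₁] [MonoidalCategory Y₁]
variable {Y₂ : Type u} [Category.{v} Y₂] [MonoidalCategory Y₂]
variable {X : Type u} [Category.{v} X] [MonoidalCategory X]
variable {fL : S₀ ⥤ Y₁} {fR : Y₁ ⥤ S₀} {gR : Y₂ ⥤ S₀}
variable {pL : Y₁ ⥤ X} {pR : X ⥤ Y₁} {qL : Y₂ ⥤ X} {qR : X ⥤ Y₂}

theorem symm_extProd (adjf : fL ⊣ fR) [fL.OplaxMonoidal] [fR.LaxMonoidal] [adjf.IsMonoidal]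
    (adjp : pL ⊣ pR) [pL.OplaxMonoidal] [pR.LaxMonoidal] [adjp.IsMonoidal] (adjq : qL ⊣ qR)
    (ν : qR ⋙ gR ⟶ pR ⋙ fR) (A : Y₁) (B : Y₂) :
    ((adjf.comp adjp).homEquiv _ _).symm (extProd adjf adjp adjq ν A B) =
      δ (fL ⋙ pL) (fR.obj A) (gR.obj B) ≫
        (pL.map (adjf.counit.app A) ⊗ₘ
          (pL.map ((bcMor adjf adjq ν).app B) ≫ adjp.counit.app (qL.obj B))) := by
  have h1 : fL.map (extProd adjf adjp adjq ν A B) ≫
      adjf.counit.app (pR.obj (pL.obj A ⊗ qL.obj B)) = δ fL (fR.obj A) (gR.obj B) ≫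
        (adjf.counit.app A ⊗ₘ (bcMor adjf adjq ν).app B) ≫ projL adjp A (qL.obj B) := by
    have n1 := adjf.counit.naturality (A ◁ (bcMor adjf adjq ν).app B)
    have n2 := adjf.counit.naturality (projL adjp A (qL.obj B))
    dsimp at n1 n2
    rw [extProd, fL.map_comp, fL.map_comp, Category.assoc, Category.assoc]
    erw [n2]
    rw [← Category.assoc (fL.map (fR.map _))]
    erw [n1]
    rw [Category.assoc, ← Category.assoc (fL.map (projR _ _ _))]
    erw [map_projR_counit]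
    rw [Category.assoc]
    congr 1
    exact (tensorHom_def_assoc _ _ _).symm
  rw [Adjunction.homEquiv_counit, Adjunction.comp_counit_app, Functor.comp_map,
    ← Category.assoc, ← pL.map_comp]
  erw [h1]
  rw [Functor.map_comp, Functor.map_comp, Category.assoc, Category.assoc]
  erw [map_projL_counit]
  rw [comp_δ, Category.assoc]
  erw [← δ_natural_assoc]
  rw [← id_tensorHom, tensorHom_comp_tensorHom]
  erw [Category.comp_id]

@[reassoc]
theorem extProd_natural (adjf : fL ⊣ fR) [fR.LaxMonoidal] (adjp : pL ⊣ pR) [pR.LaxMonoidal]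
    (adjq : qL ⊣ qR) (ν : qR ⋙ gR ⟶ pR ⋙ fR) {A A' : Y₁} {B B' : Y₂} (a : A ⟶ A') (b : B ⟶ B') :
    (fR.map a ⊗ₘ gR.map b) ≫ extProd adjf adjp adjq ν A' B' =
      extProd adjf adjp adjq ν A B ≫ fR.map (pR.map (pL.map a ⊗ₘ qL.map b)) := by
  have hb := (bcMor adjf adjq ν).naturality b
  dsimp only [Functor.comp_map, Functor.comp_obj] at hb
  simp only [extProd, Category.assoc, ← fR.map_comp]
  rw [← Category.assoc, projR_natural, Category.assoc, ← fR.map_comp]
  congr 2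
  have hl := projL_natural adjp a (qL.map b)
  rw [← hl, ← Category.assoc, ← Category.assoc]
  congr 1
  rw [← id_tensorHom, ← id_tensorHom, tensorHom_comp_tensorHom, tensorHom_comp_tensorHom,
    Category.comp_id, Category.id_comp]
  congr 1

variable {fS : S₀ ⥤ Y₁} {gS : S₀ ⥤ Y₂} {pS : Y₁ ⥤ X}

theorem extProd_prodShriek (adjf : fL ⊣ fR) [fR.LaxMonoidal] (adjp : pL ⊣ pR) [pR.LaxMonoidal]
    (adjq : qL ⊣ qR) (ν : qR ⋙ gR ⟶ pR ⋙ fR) (adjf' : fR ⊣ fS) (adjg' : gR ⊣ gS) (adjp' : pR ⊣ pS)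
    [∀ (A : Y₁) (B : S₀), IsIso (projR adjf A B)]
    [∀ (A : Y₁) (B : X), IsIso (projL adjp A B)]
    [∀ B : Y₂, IsIso ((bcMor adjf adjq ν).app B)] (A B : S₀) :
    extProd adjf adjp adjq ν (fS.obj A) (gS.obj B) ≫
      fR.map (pR.map (prodShriek adjf adjf' adjg' adjp adjp' adjq ν A B)) ≫
        fR.map (adjp'.counit.app (fS.obj (A ⊗ B))) =
      (fR.obj (fS.obj A) ◁ adjg'.counit.app B) ≫ projR adjf (fS.obj A) B ≫
        fR.map (cupShriek adjf adjf' A B) := by
  have hp : pR.map (prodShriek adjf adjf' adjg' adjp adjp' adjq ν A B) ≫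
      adjp'.counit.app (fS.obj (A ⊗ B)) =
      inv (projL adjp (fS.obj A) (qL.obj (gS.obj B))) ≫
        (fS.obj A ◁ inv ((bcMor adjf adjq ν).app (gS.obj B))) ≫
        cupShriek adjf adjf' A (gR.obj (gS.obj B)) ≫ fS.map (A ◁ adjg'.counit.app B) := by
    erw [← Adjunction.homEquiv_counit]
    rw [prodShriek]
    exact Equiv.symm_apply_apply _ _
  rw [← fR.map_comp]
  erw [hp]
  rw [extProd, Category.assoc, Category.assoc, ← fR.map_comp, ← fR.map_comp, IsIso.hom_inv_id_assoc]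
  erw [← whiskerLeft_comp_assoc, IsIso.hom_inv_id, whiskerLeft_id, Category.id_comp]
  rw [cup_natural, fR.map_comp]
  erw [← Category.assoc, ← Category.assoc, projR_natural_right]
  rfl

theorem extProd_symm_prodShriek (adjf : fL ⊣ fR) [fR.LaxMonoidal] (adjp : pL ⊣ pR) [pR.LaxMonoidal]
    (adjq : qL ⊣ qR) (ν : qR ⋙ gR ⟶ pR ⋙ fR) (adjf' : fR ⊣ fS) (adjg' : gR ⊣ gS) (adjp' : pR ⊣ pS)
    [∀ (A : Y₁) (B : S₀), IsIso (projR adjf A B)]
    [∀ (A : Y₁) (B : X), IsIso (projL adjp A B)]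
    [∀ B : Y₂, IsIso ((bcMor adjf adjq ν).app B)] (A B : S₀) :
    extProd adjf adjp adjq ν (fS.obj A) (gS.obj B) ≫
      ((adjp'.comp adjf').homEquiv _ _).symm
        (prodShriek adjf adjf' adjg' adjp adjp' adjq ν A B) =
      (adjf'.counit.app A ⊗ₘ adjg'.counit.app B) := by
  rw [Adjunction.homEquiv_counit, Adjunction.comp_counit_app, Functor.comp_map]
  have h := extProd_prodShriek adjf adjp adjq ν adjf' adjg' adjp' A B =≫ adjf'.counit.app (A ⊗ B)
  simp only [Category.assoc] at h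
  erw [h, cup_counit, IsIso.hom_inv_id_assoc]
  exact (tensorHom_def' _ _).symm

end Square

end Susl52
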